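import Groth.Agent.Models.RMBlow
import Groth.Agent.Lipman.SchemeRes
import Groth.Agent.Divis.BlowUpFormal
import Groth.Agent.Flat2C.BlowProper
import Groth.Agent.S2348

/-!
# A local ring resolvable by a blow-up in a primary ideal has a resolution
-/

set_option autoImplicit false
universe u

open CategoryTheory CategoryTheory.Limits AlgebraicGeometry IsLocalRing

namespace K339.HRes

open Groth.Agent Groth.Agent.Models.RMBlow

theorem hres_of_resolvable (A : Type u) [CommRing A] [IsDomain A] [IsLocalRing A] [IsNoetherianRing A]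
    (hdim : ringKrullDim A = 2) (h : Resolvable A) :
    ∃ (X : Scheme.{u}) (f : X ⟶ Spec (CommRingCat.of A)), IsProper f ∧ IsIntegral X ∧
      (∃ U : (Spec (CommRingCat.of A)).Opens, (U : Set (Spec (CommRingCat.of A))).Nonempty ∧ IsIso (f ∣_ U)) ∧
      ∀ x : X, IsRegularLocalRing (X.presheaf.stalk x) := by
  obtain ⟨I, ⟨n, hn⟩, X, b, hb, hreg⟩ := h
  have hI : I ≠ ⊥ := by
    rintro rfl
    have h1 : maximalIdeal A ^ n = ⊥ := le_bot_iff.1 hn
    have h2 : maximalIdeal A = ⊥ := by
      by_contra hc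
      exact pow_ne_zero n hc h1
    have h3 : IsField A := IsLocalRing.isField_iff_maximalIdeal_eq.2 h2
    rw [ringKrullDim_eq_zero_of_isField h3] at hdim
    exact absurd hdim (by decide)
  have hne := Lipman.SchemeRes.idealSheaf_ne_bot hI
  obtain ⟨hint, -⟩ := Groth.Agent.S2348.result (Curv2.idealSheaf A I) hne b hb
  refine ⟨X, b, Groth.Agent.Flat2C.BlowProper.isProper_of_isBlowUp hb (Groth.Agent.Models.RMBlow.isFiniteTypeIdeal _), hint, ?_, hreg⟩
  let U : (Spec (CommRingCat.of A)).Opens :=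
    ⟨((Curv2.idealSheaf A I).support : Set (Spec (CommRingCat.of A)))ᶜ,
      (Curv2.idealSheaf A I).support.isClosed.isOpen_compl⟩
  refine ⟨U, ?_, Groth.Agent.Divis.BlowUpFormal.isIso_morphismRestrict_compl_support hb U
    disjoint_compl_left⟩
  refine ⟨(⟨⊥, Ideal.isPrime_bot⟩ : PrimeSpectrum A), fun hc => hI ?_⟩
  have := (mem_support_idealSheaf I (⟨⊥, Ideal.isPrime_bot⟩ : PrimeSpectrum A)).1 hc
  exact le_bot_iff.1 this

end K339.HRes
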