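import Groth.Agent.Resolve.K339.Term
import Groth.Agent.Resolve.K375.DomMain
import Groth.Agent.Resolve.K377.QESch
import Groth.Agent.Ega4B.NagBasic

/-!
# Sequences of normalized blow-ups with non-regular centres

`exists_seq`: let `S` be quasi-excellent, `r₀ : Z₀ ⟶ S` in the class `ClN` (normal, Nagata, dimension `≤ 2`), such that every
non-regular local scheme of `Z₀` has some sequence of normalized blow-ups of closed points with regular top.  Then
finitely many normalized blow-ups of NON-REGULAR closed points lead from `Z₀` to a regular scheme; any property `E`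
of modifications of `S` which passes to such blow-ups can be carried along.
-/

set_option autoImplicit false
universe u

open CategoryTheory CategoryTheory.Limits AlgebraicGeometry IsLocalRing

namespace K339.NonReg

open Groth.Agent Groth.Agent.Resolve.K375 Tower GChain Geo NormSt HomGlue Groth.Agent.CurvesC.Modif
open DomMain _root_.K377.QESch _root_.K375.NagSch

/-- Normalized blow-up of a non-regular closed point. -/
def NRSt (Y Z : Scheme.{u}) (b : Y ⟶ Z) (z : Z) : Prop :=
  NSt Y Z b z ∧ ¬ IsRegularLocalRing (Z.presheaf.stalk z)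

theorem NRSt.isNormPtBlowupSeq {Y X : Scheme.{u}} {g : Y ⟶ X} (hg : Seq NRSt g) : Resolve.IsNormPtBlowupSeq g := by
  refine NormSt.of_seq ?_
  induction hg with
  | id X => exact Seq.id X
  | step b z r hb hr ih => exact Seq.step b z r hb.1 ih

theorem isRegularLocalRing_of_valuationRing (R : Type u) [CommRing R] [IsDomain R] [IsNoetherianRing R] [ValuationRing R] :
    IsRegularLocalRing R := by
  have h1 : IsBezout R := inferInstance
  have h2 : IsPrincipalIdealRing R := inferInstance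
  infer_instance

variable {S : Scheme.{u}}

theorem two_le {Z : Scheme.{u}} {r : Z ⟶ S} (h : ClN r) (z : Z) (hz : ¬ IsRegularLocalRing (Z.presheaf.stalk z)) :
    (2 : WithBot ℕ∞) ≤ ringKrullDim (Z.presheaf.stalk z) := by
  have := h.noeth
  refine two_le_of_bad h z fun hd hv => hz ?_
  exact isRegularLocalRing_of_valuationRing _

theorem finite_nonregular (hS : QE S) {Z : Scheme.{u}} {r : Z ⟶ S} (h : ClN r) :
    {z : Z | ¬ IsRegularLocalRing (Z.presheaf.stalk z)}.Finite := by
  have := h.noeth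
  have := h.modif.proper
  have ho := isOpen_regular (of_locallyOfFiniteType r hS)
  exact finite_of_dim 2 h.dim (T := {z : Z | ¬ IsRegularLocalRing (Z.presheaf.stalk z)}) ho.isClosed_compl
    fun z hz => two_le h z hz

theorem isClosed_nonregular {Z : Scheme.{u}} {r : Z ⟶ S} (h : ClN r) (z : Z)
    (hz : ¬ IsRegularLocalRing (Z.presheaf.stalk z)) : IsClosed ({z} : Set Z) :=
  isClosed_of_dim 2 h.dim z (two_le h z hz)

theorem ne_generic {Z : Scheme.{u}} {r : Z ⟶ S} (h : ClN r) (z : Z)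
    (hz : ¬ IsRegularLocalRing (Z.presheaf.stalk z)) : haveI := h.modif.integral; z ≠ genericPoint Z := by
  have := h.modif.integral
  rintro rfl
  apply hz
  have hv : ValuationRing Z.functionField := inferInstance
  have := h.noeth
  exact isRegularLocalRing_of_valuationRing (Z.presheaf.stalk (genericPoint Z))

/-- The system. -/
def sys (hS : QE S) (E : ∀ {Z : Scheme.{u}}, (Z ⟶ S) → Prop)
    (hE : ∀ {Z Y : Scheme.{u}} (r : Z ⟶ S) (b : Y ⟶ Z) (z : Z), ClN r → E r → NRSt Y Z b z → E (b ≫ r)) : Sys S where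
  C := fun {Z} r => ClN (Z := Z) r ∧ E r
  St := NRSt
  Bad P := ¬ IsRegularLocalRing P.A
  bad_iso := by
    rintro P Q ⟨e, -⟩ hP hQ
    exact hP (IsRegularLocalRing.of_ringEquiv e.symm)
  fin := fun r h => finite_nonregular hS h.1
  ex := by
    intro Z r z h hz
    obtain ⟨Y, b, hb⟩ := exists_nst h.1 z (isClosed_nonregular h.1 z hz) (ne_generic h.1 z hz)
    exact ⟨Y, b, ⟨hb, hz⟩, h.1.step hb (ne_generic h.1 z hz), hE r b z h.1 h.2 ⟨hb, hz⟩⟩
  off := fun r b z h hb => hb.1.off h.1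

theorem ringKrullDim_stalk_le (R : CommRingCat.{u}) (q : Spec R) :
    ringKrullDim ((Spec R).presheaf.stalk q) ≤ ringKrullDim R := by
  have hq : q.asIdeal.IsPrime := PrimeSpectrum.isPrime q
  let k : Algebra ↑R ↑((Spec R).presheaf.stalk q) := StructureSheaf.stalkAlgebra (↑R) q
  have : IsLocalization.AtPrime (↑((Spec R).presheaf.stalk q)) q.asIdeal :=
    StructureSheaf.IsLocalization.to_stalk _ _
  rw [IsLocalization.AtPrime.ringKrullDim_eq_height q.asIdeal ((Spec R).presheaf.stalk q)]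
  exact Ideal.height_le_ringKrullDim_of_ne_top hq.ne_top

/-- The germ of the local scheme at the closed point. -/
theorem iso_closedPoint {Z : Scheme.{u}} (r : Z ⟶ S) (z : Z) :
    (Germ.of (𝟙 (Spec (Z.presheaf.stalk z)) ≫ Z.fromSpecStalk z ≫ r) (closedPoint (Z.presheaf.stalk z))).Iso
      (Germ.of r z) := by
  refine ⟨(stalkClosedPointIso (Z.presheaf.stalk z)).commRingCatIsoToRingEquiv, ?_⟩
  change Spec.map (stalkClosedPointIso (Z.presheaf.stalk z)).hom ≫
    (Spec (Z.presheaf.stalk z)).fromSpecStalk (closedPoint (Z.presheaf.stalk z)) ≫ 𝟙 _ ≫ Z.fromSpecStalk z ≫ r =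
      Z.fromSpecStalk z ≫ r
  rw [← Spec_stalkClosedPointIso, Category.id_comp, ← Category.assoc, ← Spec.map_comp, Iso.inv_hom_id, Spec.map_id,
    Category.id_comp]

/-- The local scheme at a point of a scheme in the class. -/
theorem clN_stalk {Z : Scheme.{u}} {r : Z ⟶ S} (h : ClN r) (z : Z) : ClN (𝟙 (Spec (Z.presheaf.stalk z))) := by
  have := h.modif.integral
  have := h.noeth
  obtain ⟨h1, h2⟩ := h.normal z
  have hN : IsNoetherian (Spec (Z.presheaf.stalk z)) := inferInstance
  refine ⟨⟨inferInstance, inferInstance, ⊤, ⟨genericPoint _, trivial⟩, inferInstance⟩, hN,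
    NormUniq.isNormalScheme_spec (Z.presheaf.stalk z), isNag_Spec ?_, fun q => ?_⟩
  · obtain ⟨_, ⟨U, hU, rfl⟩, hzU, -⟩ := Z.isBasis_affineOpens.exists_subset_of_mem_open
      (Set.mem_univ z) isOpen_univ
    let alg1 : Algebra Γ(Z, U) (Z.presheaf.stalk z) := (Z.presheaf.germ U z hzU).hom.toAlgebra
    have hloc : IsLocalization.AtPrime (Z.presheaf.stalk z) (hU.primeIdealOf ⟨z, hzU⟩).asIdeal :=
      hU.isLocalization_stalk ⟨z, hzU⟩
    exact Ega4B.NagBasic.isNagata_localization (h.nag ⟨U, hU⟩) (hU.primeIdealOf ⟨z, hzU⟩).asIdeal.primeCompl _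
  · have e1 : ringKrullDim ((Spec (Z.presheaf.stalk z)).presheaf.stalk q) ≤ ringKrullDim (Z.presheaf.stalk z) :=
      ringKrullDim_stalk_le _ q
    exact e1.trans (h.dim z)

theorem exists_seq (hS : QE S) (E : ∀ {Z : Scheme.{u}}, (Z ⟶ S) → Prop)
    (hE : ∀ {Z Y : Scheme.{u}} (r : Z ⟶ S) (b : Y ⟶ Z) (z : Z), ClN r → E r → NRSt Y Z b z → E (b ≫ r))
    {Z₀ : Scheme.{u}} (r₀ : Z₀ ⟶ S) (h₀ : ClN r₀) (hE₀ : E r₀)
    (hseq : ∀ z : Z₀, ¬ IsRegularLocalRing (Z₀.presheaf.stalk z) →
      ∃ (W : Scheme.{u}) (g : W ⟶ Spec (Z₀.presheaf.stalk z)), Resolve.IsNormPtBlowupSeq g ∧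
        ∀ w : W, IsRegularLocalRing (W.presheaf.stalk w)) :
    ∃ (Y : Scheme.{u}) (g : Y ⟶ Z₀), Seq NRSt g ∧ ClN (g ≫ r₀) ∧ E (g ≫ r₀) ∧
      ∀ y : Y, IsRegularLocalRing (Y.presheaf.stalk y) := by
  obtain ⟨Y, g, h1, h2, h3⟩ := Term.exists_seq_of_acc (sys hS E hE) r₀ ⟨h₀, hE₀⟩ (fun z hz => by
    obtain ⟨W, g, hg, hW⟩ := hseq z hz
    have hcl := clN_stalk h₀ z
    have hacc := Term.acc_of_seq (sys hS E hE) (Z₀.fromSpecStalk z ≫ r₀) (fun r h => h.1) (fun _ _ _ _ h => h.1)
      (fun r h => by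
        intro hb
        exact ne_generic h _ hb rfl) (fun P h => h) hg hcl hW (closedPoint (Z₀.presheaf.stalk z))
    exact Term.acc_iso _ (iso_closedPoint r₀ z) hacc)
  exact ⟨Y, g, h1, h2.1, h2.2, fun y => by
    by_contra hc
    exact h3 y hc⟩

end K339.NonReg
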