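import Groth.Agent.Resolve.K375.NormSt
import Groth.Agent.Resolve.K372.NormFac
import Groth.Agent.Models.RMBlow

/-!
# The germs of a normalized blow-up of a closed point depend only on the germ of the centre
-/

set_option autoImplicit false
universe u

open CategoryTheory CategoryTheory.Limits AlgebraicGeometry IsLocalRing

namespace K339.NormUniq

open Groth.Agent Groth.Agent.Resolve.K375 Tower GChain Geo NormSt HomGlue Groth.Agent.CurvesC.Modif
open Groth.Agent.Dix.PointIdeal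

theorem isEff_span {A : Type u} [CommRing A] [IsDomain A] {f : A} (hf : f ≠ 0) :
    BlowUp.IsEffCartierIdeal (Curv2.idealSheaf A (Ideal.span {f})) := by
  intro x
  have hb := ConcreteCategory.bijective_of_isIso (Scheme.ΓSpecIso (CommRingCat.of A)).inv
  have : Nonempty (⊤ : (Spec (CommRingCat.of A)).Opens) := ⟨⟨x, trivial⟩⟩
  refine ⟨⟨⊤, isAffineOpen_top _⟩, trivial, (Scheme.ΓSpecIso (CommRingCat.of A)).inv.hom f, ?_, ?_⟩
  · exact mem_nonZeroDivisors_of_ne_zero fun h => hf (hb.1 (h.trans (map_zero _).symm))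
  · rw [Curv2.idealSheaf, Scheme.IdealSheafData.ofIdealTop_ideal, Ideal.map_span, Set.image_singleton]
    change Ideal.map ((Spec (CommRingCat.of A)).presheaf.map (𝟙 _)).hom _ = _
    rw [CategoryTheory.Functor.map_id]
    exact Ideal.map_id _

theorem isNormalScheme_spec (R : Type u) [CommRing R] [IsDomain R] [IsIntegrallyClosed R] :
    Pi1.IsNormalScheme (Spec (CommRingCat.of R)) := by
  intro x
  have hx : x.asIdeal.IsPrime := x.isPrime
  let _ : Algebra R ((Spec (CommRingCat.of R)).presheaf.stalk x) := StructureSheaf.stalkAlgebra R x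
  have h1 : IsLocalization.AtPrime ((Spec (CommRingCat.of R)).presheaf.stalk x) x.asIdeal :=
    StructureSheaf.IsLocalization.to_stalk R x
  have h2 : IsDomain ((Spec (CommRingCat.of R)).presheaf.stalk x) :=
    IsLocalization.isDomain_of_atPrime _ x.asIdeal
  exact ⟨h2, isIntegrallyClosed_of_isLocalization _ x.asIdeal.primeCompl
    x.asIdeal.primeCompl_le_nonZeroDivisors⟩

/-- Lifting points of a normal local scheme to a normalized blow-up. -/
theorem exists_lift {S Z Y : Scheme.{u}} {r : Z ⟶ S} (h : ClN r) {b : Y ⟶ Z} {z : Z} (hb : NSt Y Z b z)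
    (hne : haveI := h.modif.integral; z ≠ genericPoint Z)
    (hz : IsClosed ({z} : Set Z)) {B : Type u} [CommRing B] [IsDomain B] [IsIntegrallyClosed B]
    (t : Spec (CommRingCat.of B) ⟶ Z) (hE : BlowUp.IsEffCartierIdeal ((pt z hz).comap t))
    (hgen : haveI := h.modif.integral; t (genericPoint (Spec (CommRingCat.of B))) = genericPoint Z) :
    ∃ l : Spec (CommRingCat.of B) ⟶ Y, l ≫ b = t := by
  have := h.modif.integral
  have := h.noeth
  cases hb with
  | @mk Z' _ _ _ _ c z hc =>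
    have hcm := hc.isModif hne
    have hoff := hc.off
    obtain ⟨hz', hcb⟩ := hc
    obtain ⟨t', ht', -⟩ := hcb.2 _ t hE
    have hg : t' (genericPoint (Spec (CommRingCat.of B))) = genericPoint Z' := by
      obtain ⟨w, -, hw⟩ := hoff.bij (genericPoint Z) (fun hc => hne hc.symm)
      have e1 : c (t' (genericPoint (Spec (CommRingCat.of B)))) = genericPoint Z := by
        rw [← Scheme.Hom.comp_apply, ht', hgen]
      exact (hw _ e1).trans (hw _ (gen_of_isModif hcm)).symm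
    obtain ⟨l, hl⟩ := K372.NormFac.exists_fac (isNormalScheme_spec B) t' hg
    exact ⟨l, by rw [← Category.assoc, hl, ht']⟩

/-- Uniqueness of lifts of integral schemes. -/
theorem lift_unique {S Z Y : Scheme.{u}} {r : Z ⟶ S} (h : ClN r) {b : Y ⟶ Z} {z : Z} (hb : NSt Y Z b z)
    (hne : haveI := h.modif.integral; z ≠ genericPoint Z) {T : Scheme.{u}} [IsIntegral T] (α β : T ⟶ Y)
    (hαβ : α ≫ b = β ≫ b) (hgen : haveI := h.modif.integral; (α ≫ b) (genericPoint T) = genericPoint Z) : α = β := by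
  have := h.modif.integral
  have hm := hb.isModif h hne
  have := hm.proper
  obtain ⟨U, hU, hUi⟩ := hm.exists_isIso
  refine hom_ext b U hUi α β hαβ ?_
  rw [← Scheme.Hom.comp_apply, hgen]
  exact ((genericPoint_spec Z).mem_open_set_iff U.isOpen).mpr (by simpa using hU)

/-- A morphism from a local scheme factors through the local scheme of the image of the closed point. -/
theorem exists_fac {B : CommRingCat.{u}} [IsLocalRing B] {Y : Scheme.{u}} (t : Spec B ⟶ Y)
    (y : Y) (hy : t (closedPoint B) = y) :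
    ∃ ψ : Y.presheaf.stalk y →+* B, IsLocalHom ψ ∧
      Spec.map (CommRingCat.ofHom ψ) ≫ Y.fromSpecStalk y = t := by
  subst hy
  exact ⟨(Scheme.stalkClosedPointTo t).hom, inferInstance, Scheme.Spec_stalkClosedPointTo_fromSpecStalk t⟩

/-- The data of a point of a normalized blow-up over the centre. -/
theorem exists_data {S Z Y : Scheme.{u}} {r : Z ⟶ S} (h : ClN r) {b : Y ⟶ Z} {y : Y} {z : Z} (hyz : b y = z)
    (hb : NSt Y Z b z) (hne : haveI := h.modif.integral; z ≠ genericPoint Z) :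
    ∃ φ : Z.presheaf.stalk z →+* Y.presheaf.stalk y, IsLocalHom φ ∧ Function.Injective φ ∧
      (∃ x, φ x ≠ 0 ∧ (maximalIdeal (Z.presheaf.stalk z)).map φ = Ideal.span {φ x}) ∧
      Spec.map (CommRingCat.ofHom φ) ≫ Z.fromSpecStalk z = Y.fromSpecStalk y ≫ b := by
  subst hyz
  have := h.modif.integral
  have hp := hb.pstep h hne
  refine ⟨(b.stalkMap y).hom, hp.loc, hp.bir.1, ?_, Scheme.SpecMap_stalkMap_fromSpecStalk b⟩
  obtain ⟨x, hx, hdvd⟩ := hp.princ
  refine ⟨x, ?_, le_antisymm ?_ ?_⟩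
  · intro h0
    have hm : maximalIdeal (Z.presheaf.stalk (b y)) = ⊥ := by
      rw [eq_bot_iff]
      intro w hw
      obtain ⟨c, hc⟩ := hdvd w hw
      rw [h0, zero_mul] at hc
      exact hp.bir.1 (hc.trans (map_zero _).symm)
    exact not_isField_stalk hne (IsLocalRing.isField_iff_maximalIdeal_eq.2 hm)
  · rw [Ideal.map_le_iff_le_comap]
    intro w hw
    rw [Ideal.mem_comap, Ideal.mem_span_singleton]
    exact hdvd w hw
  · rw [Ideal.span_singleton_le_iff_mem]
    exact Ideal.mem_map_of_mem _ hx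

theorem genericPoint_fromSpecStalk {Z : Scheme.{u}} [IsIntegral Z] (z : Z) :
    Z.fromSpecStalk z (genericPoint (Spec (Z.presheaf.stalk z))) = genericPoint Z := by
  have h1 : genericPoint Z ∈ Set.range (Z.fromSpecStalk z) := by
    rw [Scheme.range_fromSpecStalk]
    exact genericPoint_specializes z
  obtain ⟨w, hw⟩ := h1
  have h2 : Z.fromSpecStalk z (genericPoint (Spec (Z.presheaf.stalk z))) ⤳ genericPoint Z := by
    rw [← hw]
    exact (genericPoint_specializes w).map (Z.fromSpecStalk z).continuous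
  exact (h2.antisymm (genericPoint_specializes _)).eq

/-- The transported morphism: one half of the comparison. -/
theorem half {S1 S2 Z1 Z2 Y1 Y2 : Scheme.{u}} {r1 : Z1 ⟶ S1} {r2 : Z2 ⟶ S2} (h1 : ClN r1) (h2 : ClN r2)
    {b1 : Y1 ⟶ Z1} {b2 : Y2 ⟶ Z2} {z1 : Z1} {z2 : Z2} (hb1 : NSt Y1 Z1 b1 z1) (hb2 : NSt Y2 Z2 b2 z2)
    (e : Z1.presheaf.stalk z1 ≃+* Z2.presheaf.stalk z2)
    (hne2 : haveI := h2.modif.integral; z2 ≠ genericPoint Z2) (y1 : Y1)
    (φ : Z1.presheaf.stalk z1 →+* Y1.presheaf.stalk y1) (hinj : Function.Injective φ)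
    (hx : ∃ x, φ x ≠ 0 ∧ (maximalIdeal (Z1.presheaf.stalk z1)).map φ = Ideal.span {φ x}) :
    ∃ t : Spec (Y1.presheaf.stalk y1) ⟶ Y2, t ≫ b2 =
      Spec.map (CommRingCat.ofHom φ) ≫ Spec.map (CommRingCat.ofHom (e.symm : Z2.presheaf.stalk z2 →+* Z1.presheaf.stalk z1)) ≫
        Z2.fromSpecStalk z2 := by
  have := h1.modif.integral
  have := h2.modif.integral
  have hN := hb1.normal y1
  have := hN.1
  have := hN.2
  obtain ⟨x, hx0, hmx⟩ := hx
  have hz2 : IsClosed ({z2} : Set Z2) := hb2.isClosed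
  let ε : Z2.presheaf.stalk z2 →+* Y1.presheaf.stalk y1 :=
    φ.comp (e.symm : Z2.presheaf.stalk z2 →+* Z1.presheaf.stalk z1)
  have hcomp : Spec.map (CommRingCat.ofHom φ) ≫
      Spec.map (CommRingCat.ofHom (e.symm : Z2.presheaf.stalk z2 →+* Z1.presheaf.stalk z1)) =
      Spec.map (CommRingCat.ofHom ε) := by
    rw [← Spec.map_comp]
    rfl
  have hεi : Function.Injective ε := hinj.comp e.symm.injective
  have hmap : (maximalIdeal (Z2.presheaf.stalk z2)).map ε = Ideal.span {φ x} := by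
    rw [← hmx, ← Ideal.map_map]
    congr 1
    exact IsLocalRing.map_ringEquiv_maximalIdeal e.symm
  rw [← Category.assoc, hcomp]
  refine exists_lift h2 hb2 hne2 hz2 (B := Y1.presheaf.stalk y1) _ ?_ ?_
  · have h3 := comap_fromSpecStalk_pt z2 hz2
    rw [Scheme.IdealSheafData.comap_comp, h3]
    have h4 := Models.RMBlow.comap_SpecMap ε (maximalIdeal (Z2.presheaf.stalk z2))
    rw [h4, hmap]
    exact isEff_span hx0
  · have h5 : Spec.map (CommRingCat.ofHom ε) (genericPoint (Spec (Y1.presheaf.stalk y1))) =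
        genericPoint (Spec (Z2.presheaf.stalk z2)) := by
      rw [genericPoint_eq_bot_of_affine, genericPoint_eq_bot_of_affine]
      refine PrimeSpectrum.ext ?_
      change Ideal.comap ε ⊥ = ⊥
      exact (RingHom.injective_iff_ker_eq_bot _).1 hεi
    rw [Scheme.Hom.comp_apply]
    exact (congrArg (Z2.fromSpecStalk z2) h5).trans (genericPoint_fromSpecStalk z2)

theorem exists_iso_aux {S S1 S2 Z1 Z2 Y1 Y2 : Scheme.{u}} (s1 : S1 ⟶ S) (s2 : S2 ⟶ S)
    {r1 : Z1 ⟶ S1} {r2 : Z2 ⟶ S2} (h1 : ClN r1) (h2 : ClN r2)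
    {b1 : Y1 ⟶ Z1} {b2 : Y2 ⟶ Z2} {z1 : Z1} {z2 : Z2} (hb1 : NSt Y1 Z1 b1 z1) (hb2 : NSt Y2 Z2 b2 z2)
    (e : Z1.presheaf.stalk z1 ≃+* Z2.presheaf.stalk z2)
    (he : Spec.map (CommRingCat.ofHom (e : Z1.presheaf.stalk z1 →+* Z2.presheaf.stalk z2)) ≫
      Z1.fromSpecStalk z1 ≫ r1 ≫ s1 = Z2.fromSpecStalk z2 ≫ r2 ≫ s2)
    (hne1 : haveI := h1.modif.integral; z1 ≠ genericPoint Z1)
    (hne2 : haveI := h2.modif.integral; z2 ≠ genericPoint Z2) (y1 : Y1) (hy1 : b1 y1 = z1) :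
    ∃ y2, b2 y2 = z2 ∧ (Germ.of ((b1 ≫ r1) ≫ s1) y1).Iso (Germ.of ((b2 ≫ r2) ≫ s2) y2) := by
  have := h1.modif.integral
  have := h2.modif.integral
  have hm1 := hb1.isModif h1 hne1
  have hm2 := hb2.isModif h2 hne2
  have := hm1.integral
  have := hm2.integral
  obtain ⟨φ1, hl1, hi1, hx1, hc1⟩ := exists_data h1 hy1 hb1 hne1
  obtain ⟨t, ht⟩ := half h1 h2 hb1 hb2 e hne2 y1 φ1 hi1 hx1
  have hee : Spec.map (CommRingCat.ofHom (e.symm : Z2.presheaf.stalk z2 →+* Z1.presheaf.stalk z1)) ≫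
      Spec.map (CommRingCat.ofHom (e : Z1.presheaf.stalk z1 →+* Z2.presheaf.stalk z2)) = 𝟙 _ := by
    rw [← Spec.map_comp, ← Spec.map_id]
    congr 1
    ext a
    exact e.symm_apply_apply a
  have hee' : Spec.map (CommRingCat.ofHom (e : Z1.presheaf.stalk z1 →+* Z2.presheaf.stalk z2)) ≫
      Spec.map (CommRingCat.ofHom (e.symm : Z2.presheaf.stalk z2 →+* Z1.presheaf.stalk z1)) = 𝟙 _ := by
    rw [← Spec.map_comp, ← Spec.map_id]
    congr 1
    ext a
    exact e.apply_symm_apply a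
  obtain ⟨y2, hty⟩ : ∃ y2, t (closedPoint (Y1.presheaf.stalk y1)) = y2 := ⟨_, rfl⟩
  have hcl1 : Spec.map (CommRingCat.ofHom φ1) (closedPoint (Y1.presheaf.stalk y1)) =
      closedPoint (Z1.presheaf.stalk z1) := IsLocalRing.comap_closedPoint φ1
  have hcle : Spec.map (CommRingCat.ofHom (e.symm : Z2.presheaf.stalk z2 →+* Z1.presheaf.stalk z1))
      (closedPoint (Z1.presheaf.stalk z1)) = closedPoint (Z2.presheaf.stalk z2) :=
    IsLocalRing.comap_closedPoint (e.symm : Z2.presheaf.stalk z2 →+* Z1.presheaf.stalk z1)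
  have hy2 : b2 y2 = z2 := by
    have e1 := congrArg (fun q : Spec (Y1.presheaf.stalk y1) ⟶ Z2 => q (closedPoint (Y1.presheaf.stalk y1))) ht
    have e2 : b2 (t (closedPoint (Y1.presheaf.stalk y1))) = Z2.fromSpecStalk z2
      (Spec.map (CommRingCat.ofHom (e.symm : Z2.presheaf.stalk z2 →+* Z1.presheaf.stalk z1))
        (Spec.map (CommRingCat.ofHom φ1) (closedPoint (Y1.presheaf.stalk y1)))) := e1
    rw [← hty]
    refine e2.trans ((congrArg (Z2.fromSpecStalk z2) ((congrArg _ hcl1).trans hcle)).trans ?_)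
    exact Scheme.fromSpecStalk_closedPoint
  obtain ⟨φ2, hl2, hi2, hx2, hc2⟩ := exists_data h2 hy2 hb2 hne2
  obtain ⟨t', ht'⟩ := half h2 h1 hb2 hb1 e.symm hne1 y2 φ2 hi2 hx2
  rw [RingEquiv.symm_symm] at ht'
  obtain ⟨ψ, hψ, hψt⟩ := exists_fac (B := Y1.presheaf.stalk y1) t y2 hty
  -- first identity
  have A0 : Spec.map (CommRingCat.ofHom ψ) ≫ Spec.map (CommRingCat.ofHom φ2) =
      Spec.map (CommRingCat.ofHom φ1) ≫
        Spec.map (CommRingCat.ofHom (e.symm : Z2.presheaf.stalk z2 →+* Z1.presheaf.stalk z1)) := by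
    rw [← cancel_mono (Z2.fromSpecStalk z2), Category.assoc, hc2, ← Category.assoc, hψt, ht, Category.assoc]
  have A1 : (Spec.map (CommRingCat.ofHom ψ) ≫ t') ≫ b1 = Y1.fromSpecStalk y1 ≫ b1 := by
    rw [Category.assoc, ht', ← Category.assoc, A0, Category.assoc, reassoc_of% hee, hc1]
  have A : Spec.map (CommRingCat.ofHom ψ) ≫ t' = Y1.fromSpecStalk y1 := by
    refine lift_unique h1 hb1 hne1 _ _ A1 ?_
    rw [A1, Scheme.Hom.comp_apply]
    exact (congrArg b1 (genericPoint_fromSpecStalk y1)).trans (gen_of_isModif hm1)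
  have hclψ : Spec.map (CommRingCat.ofHom ψ) (closedPoint (Y1.presheaf.stalk y1)) =
      closedPoint (Y2.presheaf.stalk y2) := IsLocalRing.comap_closedPoint ψ
  have hty' : t' (closedPoint (Y2.presheaf.stalk y2)) = y1 := by
    have e1 := congrArg (fun q : Spec (Y1.presheaf.stalk y1) ⟶ Y1 => q (closedPoint (Y1.presheaf.stalk y1))) A
    have e2 : t' (Spec.map (CommRingCat.ofHom ψ) (closedPoint (Y1.presheaf.stalk y1))) =
      Y1.fromSpecStalk y1 (closedPoint (Y1.presheaf.stalk y1)) := e1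
    refine (congrArg t' hclψ).symm.trans (e2.trans ?_)
    exact Scheme.fromSpecStalk_closedPoint
  obtain ⟨ψ', hψ', hψt'⟩ := exists_fac (B := Y2.presheaf.stalk y2) t' y1 hty'
  have B0 : Spec.map (CommRingCat.ofHom ψ') ≫ Spec.map (CommRingCat.ofHom φ1) =
      Spec.map (CommRingCat.ofHom φ2) ≫
        Spec.map (CommRingCat.ofHom (e : Z1.presheaf.stalk z1 →+* Z2.presheaf.stalk z2)) := by
    rw [← cancel_mono (Z1.fromSpecStalk z1), Category.assoc, hc1, ← Category.assoc, hψt', ht', Category.assoc]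
  have B1 : (Spec.map (CommRingCat.ofHom ψ') ≫ t) ≫ b2 = Y2.fromSpecStalk y2 ≫ b2 := by
    rw [Category.assoc, ht, ← Category.assoc, B0, Category.assoc, reassoc_of% hee', hc2]
  have B : Spec.map (CommRingCat.ofHom ψ') ≫ t = Y2.fromSpecStalk y2 := by
    refine lift_unique h2 hb2 hne2 _ _ B1 ?_
    rw [B1, Scheme.Hom.comp_apply]
    exact (congrArg b2 (genericPoint_fromSpecStalk y2)).trans (gen_of_isModif hm2)
  have C1 : ψ.comp ψ' = RingHom.id _ := by
    have : Spec.map (CommRingCat.ofHom ψ) ≫ Spec.map (CommRingCat.ofHom ψ') = 𝟙 _ := by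
      rw [← cancel_mono (Y1.fromSpecStalk y1), Category.assoc, hψt', A, Category.id_comp]
    rw [← Spec.map_comp, ← Spec.map_id] at this
    exact congrArg CommRingCat.Hom.hom (Spec.map_injective this)
  have C2 : ψ'.comp ψ = RingHom.id _ := by
    have : Spec.map (CommRingCat.ofHom ψ') ≫ Spec.map (CommRingCat.ofHom ψ) = 𝟙 _ := by
      rw [← cancel_mono (Y2.fromSpecStalk y2), Category.assoc, hψt, B, Category.id_comp]
    rw [← Spec.map_comp, ← Spec.map_id] at this
    exact congrArg CommRingCat.Hom.hom (Spec.map_injective this)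
  refine ⟨y2, hy2, RingEquiv.ofRingHom ψ' ψ C2 C1, ?_⟩
  change Spec.map (CommRingCat.ofHom ψ') ≫ Y1.fromSpecStalk y1 ≫ (b1 ≫ r1) ≫ s1 =
    Y2.fromSpecStalk y2 ≫ (b2 ≫ r2) ≫ s2
  simp only [Category.assoc]
  rw [← Category.assoc, hψt', ← Category.assoc, ht', Category.assoc, Category.assoc, he, ← Category.assoc, hc2,
    Category.assoc]

/-- **Uniqueness**: the germs of a normalized blow-up over the centre are determined by the germ of the centre. -/
theorem exists_iso {S S1 S2 Z1 Z2 Y1 Y2 : Scheme.{u}} (s1 : S1 ⟶ S) (s2 : S2 ⟶ S)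
    {r1 : Z1 ⟶ S1} {r2 : Z2 ⟶ S2} (h1 : ClN r1) (h2 : ClN r2)
    {b1 : Y1 ⟶ Z1} {b2 : Y2 ⟶ Z2} {z1 : Z1} {z2 : Z2} (hb1 : NSt Y1 Z1 b1 z1) (hb2 : NSt Y2 Z2 b2 z2)
    (e : (Germ.of (r1 ≫ s1) z1).Iso (Germ.of (r2 ≫ s2) z2))
    (hne1 : haveI := h1.modif.integral; z1 ≠ genericPoint Z1)
    (hne2 : haveI := h2.modif.integral; z2 ≠ genericPoint Z2) (y1 : Y1) (hy1 : b1 y1 = z1) :
    ∃ y2, b2 y2 = z2 ∧ (Germ.of ((b1 ≫ r1) ≫ s1) y1).Iso (Germ.of ((b2 ≫ r2) ≫ s2) y2) := by
  obtain ⟨e, he⟩ := e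
  exact exists_iso_aux s1 s2 h1 h2 hb1 hb2 e he hne1 hne2 y1 hy1

end K339.NormUniq
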