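import Groth.Agent.Resolve.K339.NormUniq

/-!
# Termination of normalized blow-ups of non-regular points

`acc_of_seq`: if some sequence of normalized blow-ups of closed points leads from `Z` to a regular scheme, then
every chain of infinitely near non-regular points of `Z` is finite.
-/

set_option autoImplicit false
universe u

open CategoryTheory CategoryTheory.Limits AlgebraicGeometry IsLocalRing

namespace K339.Term

open Groth.Agent Groth.Agent.Resolve.K375 Tower GChain Geo NormSt HomGlue Groth.Agent.CurvesC.Modif _root_.K375.NagSch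

/-- The blow-up of the generic point is not integral. -/
theorem ne_genericPoint {Z' Z : Scheme.{u}} [IsIntegral Z'] [IsIntegral Z] (b : Z' ⟶ Z) (z : Z)
    (hz : IsClosed ({z} : Set Z))
    (hb : BlowUp.IsBlowUp b (Scheme.IdealSheafData.vanishingIdeal ⟨{z}, hz⟩)) : z ≠ genericPoint Z := by
  rintro rfl
  obtain ⟨⟨U, hU⟩, hxU, f, hf, hI⟩ := hb.1 (genericPoint Z')
  have h0 : (Scheme.IdealSheafData.vanishingIdeal ⟨{genericPoint Z}, hz⟩ : Z.IdealSheafData) = ⊥ := by
    rw [← Scheme.IdealSheafData.support_eq_top_iff]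
    refine SetLike.coe_injective ?_
    rw [Scheme.IdealSheafData.coe_support_vanishingIdeal]
    refine Set.eq_univ_of_forall fun x => ?_
    have : x ∈ closure ({genericPoint Z} : Set Z) := (genericPoint_specializes x).mem_closure
    rwa [hz.closure_eq] at this
  rw [h0, Scheme.IdealSheafData.comap_bot] at hI
  have h1 : f ∈ Ideal.span ({f} : Set Γ(Z', U)) := Ideal.mem_span_singleton_self f
  rw [← hI] at h1
  have h2 : f = 0 := by simpa using h1
  have : Nonempty U := ⟨⟨_, hxU⟩⟩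
  exact nonZeroDivisors.ne_zero hf h2

variable {S : Scheme.{u}} (D : Sys S)

/-- Accessibility only depends on the germ. -/
theorem acc_iso {P Q : Germ S} (h : P.Iso Q) (hP : Acc D.Rel P) : Acc D.Rel Q := by
  refine Acc.intro Q fun P' hP' => ?_
  obtain ⟨Z, Y, r, b, y, h1, h2, h3, h4, h5, h6, h7⟩ := hP'
  exact hP.inv ⟨Z, Y, r, b, y, h1, h2, h3, h4.trans h.symm, h5, D.bad_iso h.symm h6, h7⟩

variable {S' : Scheme.{u}} (s : S' ⟶ S)

/-- One step. -/
theorem acc_step (hC : ∀ {Z : Scheme.{u}} (r : Z ⟶ S), D.C r → ClN r)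
    (hSt : ∀ (Y Z : Scheme.{u}) (b : Y ⟶ Z) (z : Z), D.St Y Z b z → NSt Y Z b z)
    (hgen : ∀ {Z : Scheme.{u}} (r : Z ⟶ S) (h : ClN r), haveI := h.modif.integral; ¬ D.Bad (Germ.of r (genericPoint Z)))
    {Z Y : Scheme.{u}} {r : Z ⟶ S'} (h : ClN r) {b : Y ⟶ Z} {z : Z} (hb : NSt Y Z b z)
    (hne : haveI := h.modif.integral; z ≠ genericPoint Z)
    (hY : ∀ y : Y, Acc D.Rel (Germ.of ((b ≫ r) ≫ s) y)) (w : Z) : Acc D.Rel (Germ.of (r ≫ s) w) := by
  by_cases hw : w = z
  · subst hw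
    refine Acc.intro _ fun P' hP' => ?_
    obtain ⟨Z1, Y1, r1, b1, y1, h1, h2, h3, h4, h5, h6, h7⟩ := hP'
    have hcl := hC r1 h1
    have hne1 : haveI := hcl.modif.integral; b1 y1 ≠ genericPoint Z1 := by
      intro hc
      have hb2 := D.bad_iso h4.symm h6
      rw [hc] at hb2
      exact hgen r1 hcl hb2
    obtain ⟨y2, hy2, e⟩ := NormUniq.exists_iso (𝟙 S) s hcl h (hSt _ _ _ _ h3) hb
      (by rw [Category.comp_id]; exact h4) hne1 hne y1 rfl
    rw [Category.comp_id] at e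
    rw [← h5]
    exact acc_iso D e.symm (hY y2)
  · have ho := hb.off h
    obtain ⟨y, hy, -⟩ := ho.bij w hw
    subst hy
    have := ho.iso y hw
    refine acc_iso D (Germ.iso_of_isIso b (r ≫ s) y).symm ?_
    rw [← Category.assoc]
    exact hY y

theorem clN_iso {W X : Scheme.{u}} {r : X ⟶ S'} (h : ClN r) (e : W ≅ X) : ClN (e.hom ≫ r) := by
  have := h.modif.integral
  have := h.noeth
  have hW : IsIntegral W := by
    have : Nonempty W := ⟨e.inv (genericPoint X)⟩
    exact isIntegral_of_isOpenImmersion e.hom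
  have hm : IsModif e.hom := ⟨inferInstance, hW, ⊤, ⟨genericPoint X, trivial⟩, inferInstance⟩
  refine ⟨hm.comp h.modif, isNoetherian_of_isProper e.hom, fun w => ?_, isNag_of_locallyOfFiniteType e.hom h.nag,
    fun w => ?_⟩
  · obtain ⟨h1, h2⟩ := h.normal (e.hom w)
    have ε : X.presheaf.stalk (e.hom w) ≃+* W.presheaf.stalk w :=
      (asIso (e.hom.stalkMap w)).commRingCatIsoToRingEquiv
    exact ⟨ε.symm.toMulEquiv.isDomain _, IsIntegrallyClosed.of_equiv ε⟩
  · have ε : X.presheaf.stalk (e.hom w) ≃+* W.presheaf.stalk w :=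
      (asIso (e.hom.stalkMap w)).commRingCatIsoToRingEquiv
    rw [← ringKrullDim_eq_of_ringEquiv ε]
    exact h.dim _

theorem acc_of_seq_aux (hC : ∀ {Z : Scheme.{u}} (r : Z ⟶ S), D.C r → ClN r)
    (hSt : ∀ (Y Z : Scheme.{u}) (b : Y ⟶ Z) (z : Z), D.St Y Z b z → NSt Y Z b z)
    (hgen : ∀ {Z : Scheme.{u}} (r : Z ⟶ S) (h : ClN r), haveI := h.modif.integral; ¬ D.Bad (Germ.of r (genericPoint Z)))
    {W X : Scheme.{u}} {g : W ⟶ X} (hg : Resolve.IsNormPtBlowupSeq g) :
    ∀ {r : X ⟶ S'} (_ : ClN r), ClN (g ≫ r) ∧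
      ((∀ w : W, Acc D.Rel (Germ.of ((g ≫ r) ≫ s) w)) → ∀ x : X, Acc D.Rel (Germ.of (r ≫ s) x)) := by
  induction hg with
  | @iso W X e =>
    intro r h
    refine ⟨clN_iso h e, fun hW x => ?_⟩
    obtain ⟨w, rfl⟩ : ∃ w, e.hom w = x := ⟨e.inv x, by rw [← Scheme.Hom.comp_apply, Iso.inv_hom_id]; rfl⟩
    refine acc_iso D (Germ.iso_of_isIso e.hom (r ≫ s) w).symm ?_
    rw [← Category.assoc]
    exact hW w
  | @step Z' Z X _ _ _ b r₀ z hz hb hr ih =>
    intro r h
    obtain ⟨h1, h2⟩ := ih h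
    have := h1.modif.integral
    have hne := ne_genericPoint b z hz hb
    have hst : NSt (Curv2.normalization Z') Z (Curv2.normalizationι Z' ≫ b) z := NSt.mk b z ⟨hz, hb⟩
    have h3 := h1.step hst hne
    have e : (Curv2.normalizationι Z' ≫ b ≫ r₀) ≫ r = (Curv2.normalizationι Z' ≫ b) ≫ r₀ ≫ r := by
      simp only [Category.assoc]
    rw [e]
    exact ⟨h3, fun hW => h2 (acc_step D s hC hSt hgen h1 hst hne hW)⟩

/-- If a sequence of normalized blow-ups of closed points leads to a regular scheme, the non-regular germs are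
accessible. -/
theorem acc_of_seq (hC : ∀ {Z : Scheme.{u}} (r : Z ⟶ S), D.C r → ClN r)
    (hSt : ∀ (Y Z : Scheme.{u}) (b : Y ⟶ Z) (z : Z), D.St Y Z b z → NSt Y Z b z)
    (hgen : ∀ {Z : Scheme.{u}} (r : Z ⟶ S) (h : ClN r), haveI := h.modif.integral; ¬ D.Bad (Germ.of r (genericPoint Z)))
    (hBad : ∀ P, D.Bad P → ¬ IsRegularLocalRing P.A)
    {W X : Scheme.{u}} {g : W ⟶ X} (hg : Resolve.IsNormPtBlowupSeq g) {r : X ⟶ S'} (h : ClN r)
    (hW : ∀ w : W, IsRegularLocalRing (W.presheaf.stalk w)) (x : X) : Acc D.Rel (Germ.of (r ≫ s) x) := by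
  refine (acc_of_seq_aux D s hC hSt hgen hg h).2 (fun w => Acc.intro _ fun P' hP' => ?_) x
  obtain ⟨Z1, Y1, r1, b1, y1, h1, h2, h3, h4, h5, h6, h7⟩ := hP'
  exact absurd (hW w) (hBad _ h6)

/-- The induction with accessibility. -/
theorem exists_seq_of_acc {Z : Scheme.{u}} (r : Z ⟶ S) (hC : D.C r)
    (hacc : ∀ z, D.Bad (Germ.of r z) → Acc D.Rel (Germ.of r z)) :
    ∃ (Y : Scheme.{u}) (g : Y ⟶ Z), Seq D.St g ∧ D.C (g ≫ r) ∧ ∀ y, ¬ D.Bad (Germ.of (g ≫ r) y) := by
  refine D.exists_seq r hC fun z hz P hP0 hrel => ?_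
  have h := hacc z hz
  rw [← hP0] at h
  exact (not_acc_iff_exists_descending_chain.2 ⟨P, rfl, hrel⟩) h

end K339.Term
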